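import Cfsg.Agent.Lib.Perm.ZGroup.SuzukiUnique.Iso
import Cfsg.Agent.Lib.Perm.SharpThreeOdd

/-!
Simple Zassenhaus groups up to isomorphism.
-/

set_option autoImplicit false
set_option linter.style.haveILetI false

namespace CfsgLib.Perm.ZGroup

/-- A finite simple Zassenhaus group is `PSL(2, F)` or a Suzuki group, up to isomorphism. -/
theorem psl_or_isoSuzuki {G Ω : Type*} [Group G] [Finite G] [MulAction G Ω]
    [Finite Ω] (hZ : Cfsg.IsZassenhausGroup G Ω) [IsSimpleGroup G] :
    (∃ (F : Type) (_ : Field F) (_ : Fintype F),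
      Nonempty (G ≃* Matrix.ProjectiveSpecialLinearGroup (Fin 2) F)) ∨ Cfsg.Lie.IsoSuzuki G := by
  classical
  letI := Fintype.ofFinite Ω
  haveI := hZ.1
  obtain ⟨g, hg, a, b, hab, -⟩ := hZ.2.2.2.1
  obtain ⟨S⟩ := exists_setup hZ hab
  rcases S.simple_cases with ⟨hFab, -⟩ | ⟨hcyc, hodd, hbig, t, hta, htb, hinv⟩
  · refine Or.inl ?_
    rcases S.simple_abelian hFab with ⟨p, f, K, _, _, -, -, -, -, he⟩ | ⟨hoddΩ, hH, h3, hsharp⟩
    · exact ⟨K, inferInstance, inferInstance, he⟩
    · have hinj : Function.Injective (MulAction.toPermHom G Ω) :=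
        fun x y h => MulAction.toPerm_injective h
      let e := MonoidHom.ofInjective hinj
      haveI := h3
      have h3' : MulAction.IsMultiplyPretransitive (MulAction.toPermHom G Ω).range Ω 3 :=
        ⟨fun x y => by
          obtain ⟨k, hk⟩ := MulAction.exists_smul_eq G x y
          exact ⟨⟨MulAction.toPermHom G Ω k, k, rfl⟩, hk⟩⟩
      have hfree : ∀ (p : (MulAction.toPermHom G Ω).range) (x y z : Ω), x ≠ y → x ≠ z → y ≠ z →
          p • x = x → p • y = y → p • z = z → p = 1 := by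
        rintro ⟨_, k, rfl⟩ x y z hxy hxz hyz hx hy hz
        refine Subtype.ext ?_
        show MulAction.toPermHom G Ω k = 1
        rw [S.free hxy hxz hyz hx hy hz, map_one]
      have h1 := S.card_F
      have h2 := S.one_lt_H
      have h5 : 5 ≤ Fintype.card Ω := by
        obtain ⟨i, hi⟩ := hoddΩ
        omega
      obtain ⟨j, -, -, F, hF, hFt, -, ⟨e'⟩⟩ :=
        CfsgLib.Perm.SharpThreeOdd.exists_psl _ h3' hfree hoddΩ h5
      exact ⟨F, hF, hFt, ⟨e.trans e'⟩⟩
  · letI := Fintype.ofFinite G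
    obtain ⟨h2, hna, -⟩ := S.kernel_two_group hta htb hinv hcyc hodd hbig
    exact Or.inr (Setup.IsTwoKernel.isoSuzuki (S := S) ⟨h2, hna⟩)

end CfsgLib.Perm.ZGroup
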