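import Cfsg.Agent.Lib.Perm.ZGroup.SuzukiUnique.Normal
import Cfsg.Agent.Lib.Perm.ZGroup.Simple
import Cfsg.Agent.S0324
import Cfsg.Agent.S0325
import Cfsg.Agent.S0326
import Cfsg.Agent.S0327

/-!
# Uniqueness of the Suzuki groups

A simple Zassenhaus group whose kernel is a non-abelian `2`-group is isomorphic to a Suzuki group
`Sz(q)`.
-/

set_option autoImplicit false

namespace CfsgLib.Perm.ZGroup.SuzukiUnique

open MulAction CfsgLib.RankOne

universe u v w

variable {G : Type u} {Ω : Type v} [Group G] [Finite G] [MulAction G Ω] [Fintype Ω] {a b : Ω}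
  {S : Setup G Ω a b} {K : Type w} [Field K]

/-- The permutation model attached to a twist and a map `f`. -/
noncomputable def gens {φ : K ≃+* K} (f : TA φ → TA φ) : Set (Equiv.Perm (Option (TA φ))) := by
  classical exact
  {σ | (∃ u, σ = Equiv.optionCongr (Equiv.mulLeft u)) ∨
    (∃ k : Kˣ, σ = Equiv.optionCongr (MulAction.toPerm k)) ∨
    (⇑σ = fun o => o.elim (some 1) fun u => if u = 1 then none else some (f u))}

namespace Coord

variable (C : Coord S K)

/-- The points of the model. -/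
noncomputable def pts : Option (TA C.φ) ≃ Ω :=
  Equiv.ofBijective (fun o => o.elim a C.pt)
    ⟨fun o o' h => by
      rcases o with - | u <;> rcases o' with - | u'
      · rfl
      · exact absurd h.symm (C.pt_ne_a u')
      · exact absurd h (C.pt_ne_a u)
      · exact congrArg some (C.pt_inj h),
    fun y => by
      by_cases hy : y = a
      · exact ⟨none, hy.symm⟩
      · obtain ⟨u, hu⟩ := C.pt_surj hy
        exact ⟨some u, hu⟩⟩

/-- The action on the model. -/
noncomputable def rep : G →* Equiv.Perm (Option (TA C.φ)) :=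
  (C.pts.symm.permCongrHom : Equiv.Perm Ω ≃* _).toMonoidHom.comp (MulAction.toPermHom G Ω)

theorem rep_apply (g : G) (o : Option (TA C.φ)) : C.rep g o = C.pts.symm (g • C.pts o) := rfl

theorem rep_eq {g : G} {σ : Equiv.Perm (Option (TA C.φ))}
    (h : ∀ o, g • C.pts o = C.pts (σ o)) : C.rep g = σ :=
  Equiv.ext fun o => by rw [C.rep_apply, h, Equiv.symm_apply_apply]

theorem rep_injective : Function.Injective C.rep := by
  haveI := S.hZ.1
  intro g g' h
  refine eq_of_smul_eq_smul (α := Ω) fun y => C.pts.symm.injective ?_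
  have h1 := Equiv.congr_fun h (C.pts.symm y)
  rwa [C.rep_apply, C.rep_apply, C.pts.apply_symm_apply] at h1

theorem rep_θ (u : TA C.φ) : C.rep (C.θ u : G) = Equiv.optionCongr (Equiv.mulLeft u) :=
  C.rep_eq fun o => by
    rcases o with - | x
    · exact S.hle (C.θ u).2
    · exact C.θ_pt u x

theorem rep_μ (k : Kˣ) : C.rep (C.μ k : G) = Equiv.optionCongr (MulAction.toPerm k) :=
  C.rep_eq fun o => by
    rcases o with - | x
    · exact (C.μ k).2.1
    · exact C.μ_pt k x

theorem rep_v [DecidableEq (TA C.φ)] : ⇑(C.rep C.v) = fun o : Option (TA C.φ) =>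
    o.elim (some 1) fun u => if u = 1 then none else some (C.f u) := by
  funext o
  rw [C.rep_apply, Equiv.symm_apply_eq]
  rcases o with - | x
  · exact C.v_a.trans C.pt_one.symm
  · by_cases hx : x = 1
    · subst hx
      simp only [Option.elim, if_pos]
      exact (congrArg (C.v • ·) C.pt_one).trans C.v_b
    · simp only [Option.elim, if_neg hx]
      exact C.v_pt hx

theorem rep_range : C.rep.range = Subgroup.closure (gens C.f) := by
  classical
  refine le_antisymm ?_ ((Subgroup.closure_le _).mpr ?_)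
  · have hstab : ∀ g : G, g • a = a → C.rep g ∈ Subgroup.closure (gens C.f) := by
      intro g hg
      obtain ⟨u, hu, h, hh, rfl⟩ := S.exists_mul hg
      obtain ⟨k, hk⟩ := C.μ_surj ⟨h, hh⟩
      rw [map_mul, show h = (C.μ k : G) by rw [hk],
        show u = (C.θ (C.θ.symm ⟨u, hu⟩) : G) by rw [C.θ.apply_symm_apply], C.rep_θ, C.rep_μ]
      exact mul_mem (Subgroup.subset_closure (Or.inl ⟨_, rfl⟩))
        (Subgroup.subset_closure (Or.inr (Or.inl ⟨_, rfl⟩)))
    rintro _ ⟨g, rfl⟩
    by_cases hg : g • a = a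
    · exact hstab g hg
    · obtain ⟨u, hu⟩ := C.pt_surj hg
      have hs : (((C.θ u : G) * C.v)⁻¹ * g) • a = a := by
        rw [mul_smul, inv_smul_eq_iff, mul_smul, C.v_a, ← hu]; rfl
      have he : C.rep ((C.θ u : G) * C.v) ∈ Subgroup.closure (gens C.f) := by
        rw [map_mul, C.rep_θ]
        exact mul_mem (Subgroup.subset_closure (Or.inl ⟨_, rfl⟩))
          (Subgroup.subset_closure (Or.inr (Or.inr C.rep_v)))
      have := mul_mem he (hstab _ hs)
      rwa [← map_mul, mul_inv_cancel_left] at this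
  · rintro σ (⟨u, rfl⟩ | ⟨k, rfl⟩ | hσ)
    · exact ⟨_, C.rep_θ u⟩
    · exact ⟨_, C.rep_μ k⟩
    · exact ⟨C.v, Equiv.coe_fn_injective (C.rep_v.trans hσ.symm)⟩

variable {C} [Fintype K] [CharP K 2]

theorem Normal.φ_apply {j : ℕ} (hK : Fintype.card K = 2 ^ (2 * j + 1)) (hN : C.Normal) (x : K) :
    C.φ x ^ 2 ^ (j + 1) = x := by
  haveI : Finite (K ≃+* K) :=
    Finite.of_injective (fun σ : K ≃+* K => (σ : K → K)) DFunLike.coe_injective
  have hpow : ∀ (n : ℕ) (y : K), (C.φ ^ n : K ≃+* K) y = (⇑C.φ)^[n] y := by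
    intro n
    induction n with
    | zero => intro y; rfl
    | succ n ih =>
      intro y
      rw [pow_succ, Function.iterate_succ_apply, ← ih]
      rfl
  have hit : ∀ (i : ℕ) (y : K), ((⇑C.φ)^[2 * i] y) ^ 2 ^ i = y := by
    intro i
    induction i with
    | zero => intro y; simp
    | succ i ih =>
      intro y
      rw [show 2 * (i + 1) = 2 + 2 * i by ring, Function.iterate_add_apply, pow_succ', pow_mul]
      simp only [Function.iterate_succ_apply, Function.iterate_zero_apply]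
      rw [hN.twist, ih]
  have h1 : C.φ ^ (2 * (2 * j + 1)) = 1 := RingEquiv.ext fun y => by
    have h := hit (2 * j + 1) y
    rw [← hK, FiniteField.pow_card] at h
    rw [hpow, h]; rfl
  have hodd : Odd (orderOf C.φ) := SuzukiTwoTypeA.odd_orderOf C.φ C.injQ
  have h2 : C.φ ^ (2 * j + 1) = 1 :=
    orderOf_dvd_iff_pow_eq_one.mp ((Nat.Coprime.dvd_of_dvd_mul_left
      (Nat.coprime_two_right.mpr hodd) (orderOf_dvd_of_pow_eq_one h1)))
  have h3 := hit (j + 1) x
  rw [← hpow, show 2 * (j + 1) = 2 * j + 1 + 1 by ring, pow_succ' C.φ, h2, mul_one] at h3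
  exact h3

/-- Two normalised coordinate systems over the same field give isomorphic groups. -/
theorem Normal.nonempty_mulEquiv {G' : Type*} {Ω' : Type*} [Group G'] [Finite G'] [MulAction G' Ω']
    [Fintype Ω'] {a' b' : Ω'} {S' : Setup G' Ω' a' b'} {C' : Coord S' K} {j : ℕ}
    (hK : Fintype.card K = 2 ^ (2 * j + 1)) (hN : C.Normal) (hN' : C'.Normal) :
    Nonempty (G ≃* G') := by
  haveI : Fact (Nat.Prime 2) := ⟨Nat.prime_two⟩
  have hφ : C'.φ = C.φ := RingEquiv.ext fun x => by
    have h := (hN'.φ_apply hK x).trans (hN.φ_apply hK x).symm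
    refine CharTwo.add_eq_zero.mp ?_
    refine (pow_eq_zero_iff (Nat.two_pow_pos (j + 1)).ne').mp ?_
    rw [add_pow_char_pow, h, CharTwo.add_self_eq_zero]
  obtain ⟨φ', hi', hr', θ', μ', hμ', hc', v', hv1', hv2', hv3'⟩ := C'
  change φ' = C.φ at hφ
  subst hφ
  set C' : Coord S' K := ⟨C.φ, hi', hr', θ', μ', hμ', hc', v', hv1', hv2', hv3'⟩
  have hff : C.f = C'.f := funext fun u => hN.f_eq (φ₀ := C.φ) hN' rfl rfl u
  have hr : C.rep.range = C'.rep.range := by
    rw [C.rep_range, C'.rep_range, hff]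
  exact ⟨(MonoidHom.ofInjective C.rep_injective).trans
    ((MulEquiv.subgroupCongr hr).trans (MonoidHom.ofInjective C'.rep_injective).symm)⟩

end Coord

/-- Normalised coordinates over any field of the right order. -/
theorem exists_normal_coord {S : Setup G Ω a b} (hT : S.IsTwoKernel) [IsSimpleGroup G] (L : Type w)
    [Field L] [Fintype L] [CharP L 2] {j : ℕ} (hq : Nat.card S.H + 1 = 2 ^ (2 * j + 1))
    (hF : Nat.card S.F = (2 ^ (2 * j + 1)) ^ 2) (hL : Fintype.card L = 2 ^ (2 * j + 1)) :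
    ∃ C : Coord S L, C.Normal := by
  obtain ⟨K, _, _, _, hK, ⟨C⟩⟩ := exists_coord hT hq hF
  exact (C.transport (FiniteField.ringEquivOfCardEq (hK.trans hL.symm))).exists_normal
    ⟨j, rfl⟩ hL

end CfsgLib.Perm.ZGroup.SuzukiUnique

namespace CfsgLib.Perm.ZGroup.Setup.IsTwoKernel

open CfsgLib.Perm.ZGroup.SuzukiUnique

universe u v

variable {G : Type u} {Ω : Type v} [Group G] [Finite G] [MulAction G Ω] [Fintype Ω] {a b : Ω}
  {S : Setup G Ω a b}

/-- The kernel of a Zassenhaus group of the parameters of a Suzuki group is a non-abelian `2`-group. -/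
theorem of_card [IsSimpleGroup G] {q : ℕ} (hq : 4 ≤ q) (hqe : Even q)
    (hH : Nat.card S.H + 1 = q) (hF : Nat.card S.F = q ^ 2) : S.IsTwoKernel := by
  classical
  letI := Fintype.ofFinite G
  have hcard := S.card_F
  rcases S.simple_cases with ⟨hFab, -⟩ | ⟨hcyc, hodd, hbig, t, hta, htb, hinv⟩
  · exfalso
    rcases S.simple_abelian hFab with ⟨p, f, K, _, _, hp, hp2, -, hΩ, -⟩ | ⟨-, hH', -, -⟩
    · have he : Even (p ^ f) := by
        rw [show p ^ f = q ^ 2 by omega]
        exact hqe.pow_of_ne_zero two_ne_zero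
      rcases Nat.even_pow.mp he with ⟨he, -⟩
      exact hp2 ((Nat.Prime.even_iff hp).mp he)
    · have : q * 4 ≤ q ^ 2 := by rw [pow_two]; exact Nat.mul_le_mul_left q hq
      omega
  · obtain ⟨h2, hna, -⟩ := S.kernel_two_group hta htb hinv hcyc hodd hbig
    exact ⟨h2, hna⟩

/-- A simple Zassenhaus group whose kernel is a non-abelian `2`-group is a Suzuki group. -/
theorem isoSuzuki (hT : S.IsTwoKernel) [IsSimpleGroup G] : Cfsg.Lie.IsoSuzuki G := by
  classical
  haveI : Fact (Nat.Prime 2) := ⟨Nat.prime_two⟩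
  obtain ⟨m, ⟨j, rfl⟩, hm, hq, hF⟩ := hT.suzuki_params
  have hj : 1 ≤ j := by omega
  let L := GaloisField 2 (2 * j + 1)
  letI := Fintype.ofFinite L
  have hL : Fintype.card L = 2 ^ (2 * j + 1) := by
    rw [← Nat.card_eq_fintype_card]
    exact GaloisField.card 2 _ (by omega)
  haveI : CharP L 2 := inferInstance
  obtain ⟨C, hC⟩ := exists_normal_coord hT L hq hF hL
  -- the model
  haveI := Cfsg.Agent.S0325.result hj hL
  have hZ := Cfsg.Agent.S0327.result hj hL
  haveI : Finite (Cfsg.suzukiOvoid L j) := inferInstance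
  letI := Fintype.ofFinite (Cfsg.suzukiOvoid L j)
  haveI : Finite (Cfsg.Sz L j) := inferInstance
  obtain ⟨g, hg, a', b', hab, -⟩ := hZ.2.2.2.1
  obtain ⟨S'⟩ := exists_setup hZ hab
  have hcG := Cfsg.Agent.S0324.result hj hL
  have hcO := Cfsg.Agent.S0326.result (F := L) j
  rw [Nat.card_eq_fintype_card, ← S'.card_F, hL] at hcO
  have hF' : Nat.card S'.F = (2 ^ (2 * j + 1)) ^ 2 := by omega
  have hq' : Nat.card S'.H + 1 = 2 ^ (2 * j + 1) := by
    rw [S'.card_G, hF', ← mul_assoc, mul_comm ((2 ^ (2 * j + 1)) ^ 2 + 1)] at hcG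
    have := Nat.eq_of_mul_eq_mul_left (by positivity) hcG
    have := Nat.two_pow_pos (2 * j + 1)
    omega
  have h4 : 4 ≤ 2 ^ (2 * j + 1) := by
    calc 4 = 2 ^ 2 := rfl
      _ ≤ _ := Nat.pow_le_pow_right two_pos (by omega)
  have hT' : S'.IsTwoKernel := of_card h4 (Nat.even_pow.mpr ⟨even_two, by omega⟩) hq' hF'
  obtain ⟨C', hC'⟩ := exists_normal_coord hT' L hq' hF' hL
  obtain ⟨e⟩ := hC.nonempty_mulEquiv hL hC'
  obtain ⟨-, φ, -⟩ := CfsgLib.KnownB.Suzuki.exists_equiv_of_card hj hL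
  exact ⟨L, inferInstance, inferInstance, j, hj, hL, ⟨e.trans φ.symm⟩⟩

end CfsgLib.Perm.ZGroup.Setup.IsTwoKernel
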