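import Mathlib

/-!
# The field identities behind the uniqueness of the Suzuki groups

`p` stands for `x`, `r` for `φ x`, `s` for `φ y`.
-/

set_option autoImplicit false
set_option maxHeartbeats 1000000

namespace CfsgLib.Perm.ZGroup.SuzukiUnique.Alg

variable {K : Type*} [Field K] [CharP K 2]

/-- The denominator. -/
def D (β p r : K) : K := (1 + r) + p * r ^ 2 * (β * (p + r) + 1 + r)

/-- The numerator. -/
def N (β p r : K) : K :=
  (1 + r) * (1 + p * r) ^ 2 + β * (p + r) * (p * r) * (1 + p * r) +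
    β ^ 2 * (p + r) * (p * r) + β * (1 + p) * (p * r)

theorem first {β p r y s : K} (hp : p ≠ 0) (hr : r ≠ 0) (hy : y * s * (1 + p * r) = p * r)
    (h : ((β + 1) * (1 + r) + β * (1 + p)) * (β * (1 + y * s) + 1 + s) =
      β + (1 + p) * (1 + r) / (p * r) * (β * (1 + y * s / (p * r)) + 1 + s / r) +
        (1 + r) / r * (1 + s / r)) :
    (s / r) * (1 + p * r) * D β p r = N β p r := by
  have h2 : (2 : K) = 0 := CharTwo.two_eq_zero
  simp only [D, N]
  field_simp at h ⊢
  refine mul_left_cancel₀ hp ?_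
  have h3 : (3 : K) = 1 := by linear_combination h2
  have h4 : (4 : K) = 0 := by linear_combination 2 * h2
  have h5 : (5 : K) = 1 := by linear_combination 2 * h2
  have h6 : (6 : K) = 0 := by linear_combination 3 * h2
  have h7 : (7 : K) = 1 := by linear_combination 3 * h2
  have h8 : (8 : K) = 0 := by linear_combination 4 * h2
  linear_combination (norm := (ring_nf; simp only [h2, h3, h4, h5, h6, h7, h8, CharTwo.neg_eq, mul_zero, zero_mul, mul_one, one_mul, add_zero, zero_add, neg_zero, CharTwo.sub_eq_add]; try ring_nf; try simp only [h2, h3, h4, h5, h6, h7, h8, CharTwo.neg_eq, mul_zero, zero_mul, mul_one, one_mul, add_zero, zero_add, neg_zero]; try ring_nf))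
    (1 + p * r) * h +
    β * (r ^ 2 * p ^ 2 * ((β + 1) * (1 + r) + β * (1 + p)) + (1 + r) * (1 + p)) * hy

theorem bracket {β p r s : K} (hp : p ≠ 0) (hr : r ≠ 0) (hU : 1 + p * r ≠ 0)
    (h1 : (s / r) * (1 + p * r) * D β p r = N β p r)
    (h2' : s * (1 + p⁻¹ * r⁻¹) * D β p⁻¹ r⁻¹ = N β p⁻¹ r⁻¹) :
    β * (p + r) * (β + 1) * (β * (p + r) * (1 + p * r ^ 2) + r * (1 + r) * (1 + p) ^ 2) = 0 := by
  have h2 : (2 : K) = 0 := CharTwo.two_eq_zero
  have key : N β p r * D β p⁻¹ r⁻¹ = p * N β p⁻¹ r⁻¹ * D β p r := by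
    rw [← h1, ← h2']
    field_simp
    ring
  have h3 : (3 : K) = 1 := by linear_combination h2
  have h4 : (4 : K) = 0 := by linear_combination 2 * h2
  have h5 : (5 : K) = 1 := by linear_combination 2 * h2
  have h6 : (6 : K) = 0 := by linear_combination 3 * h2
  have h7 : (7 : K) = 1 := by linear_combination 3 * h2
  have h8 : (8 : K) = 0 := by linear_combination 4 * h2
  refine (mul_eq_zero.mp (?_ : p * r * _ = 0)).resolve_left (mul_ne_zero hp hr)
  simp only [D, N] at key
  field_simp at key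
  linear_combination (norm := (ring_nf; simp only [h2, h3, h4, h5, h6, h7, h8, CharTwo.neg_eq, mul_zero, zero_mul, mul_one, one_mul, add_zero, zero_add, neg_zero, CharTwo.sub_eq_add]; try ring_nf; try simp only [h2, h3, h4, h5, h6, h7, h8, CharTwo.neg_eq, mul_zero, zero_mul, mul_one, one_mul, add_zero, zero_add, neg_zero]; try ring_nf)) key

theorem twist {p r t : K} (hp : p + 1 ≠ 0) (hr : r + 1 ≠ 0) (hr0 : r ≠ 0)
    (h : (1 + p * r ^ 2) * (1 + r * t ^ 2) = (1 + p * r) * (1 + r * t) ^ 2) : t ^ 2 = p := by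
  have h2 : (2 : K) = 0 := CharTwo.two_eq_zero
  have h0 : r * (1 + r) * (p + t ^ 2) = 0 := by linear_combination h + (r * p + r * t + r ^ 2 * p * t + r ^ 2 * t ^ 2) * h2
  simp only [mul_eq_zero, hr0, false_or, add_comm (1 : K) r, hr] at h0
  linear_combination h0 - p * h2

end CfsgLib.Perm.ZGroup.SuzukiUnique.Alg
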