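import Mathlib

/-!
# The two-parameter 2-groups of type A with their torus

Pairs `(a, b)` with `(a, b) * (c, d) = (a + c, b + d + a * φ c)`; the units of the field act by
`(a, b) ↦ (k a, k φ(k) b)`.
-/

set_option autoImplicit false

namespace CfsgLib.Perm.ZGroup.SuzukiUnique

variable {K : Type*} [Field K]

/-- A point of the group of type A. -/
@[ext] structure TA (φ : K ≃+* K) where
  /-- The coordinate modulo the centre. -/
  fst : K
  /-- The central coordinate. -/
  snd : K

namespace TA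

variable {φ : K ≃+* K}

instance : Mul (TA φ) := ⟨fun u w => ⟨u.fst + w.fst, u.snd + w.snd + u.fst * φ w.fst⟩⟩
instance : One (TA φ) := ⟨⟨0, 0⟩⟩
instance : Inv (TA φ) := ⟨fun u => ⟨-u.fst, -u.snd + u.fst * φ u.fst⟩⟩

@[simp] theorem mul_fst (u w : TA φ) : (u * w).fst = u.fst + w.fst := rfl
@[simp] theorem mul_snd (u w : TA φ) : (u * w).snd = u.snd + w.snd + u.fst * φ w.fst := rfl
@[simp] theorem one_fst : (1 : TA φ).fst = 0 := rfl
@[simp] theorem one_snd : (1 : TA φ).snd = 0 := rfl
@[simp] theorem inv_fst (u : TA φ) : u⁻¹.fst = -u.fst := rfl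
@[simp] theorem inv_snd (u : TA φ) : u⁻¹.snd = -u.snd + u.fst * φ u.fst := rfl

instance : Group (TA φ) := Group.ofLeftAxioms
  (fun u w x => by ext <;> simp <;> ring)
  (fun u => by ext <;> simp)
  (fun u => by ext <;> simp)

instance [Finite K] : Finite (TA φ) :=
  Finite.of_injective (fun u => (u.fst, u.snd)) fun u w h => by
    ext
    · exact congrArg Prod.fst h
    · exact congrArg Prod.snd h

theorem ne_one_iff {u : TA φ} : u ≠ 1 ↔ u.fst ≠ 0 ∨ u.snd ≠ 0 := by
  constructor
  · intro h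
    by_contra hc
    push Not at hc
    exact h (by ext <;> simp [hc.1, hc.2])
  · rintro (h | h) rfl <;> exact h rfl

theorem mul_self [CharP K 2] (u : TA φ) : u * u = ⟨0, u.fst * φ u.fst⟩ := by
  ext <;> simp [CharTwo.add_self_eq_zero]

theorem inv_eq [CharP K 2] (u : TA φ) : u⁻¹ = ⟨u.fst, u.snd + u.fst * φ u.fst⟩ := by
  ext <;> simp [CharTwo.neg_eq]

/-- The torus. -/
instance : SMul Kˣ (TA φ) := ⟨fun k u => ⟨(k : K) * u.fst, (k : K) * φ k * u.snd⟩⟩

@[simp] theorem smul_fst (k : Kˣ) (u : TA φ) : (k • u).fst = k * u.fst := rfl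
@[simp] theorem smul_snd (k : Kˣ) (u : TA φ) : (k • u).snd = k * φ k * u.snd := rfl

instance : MulDistribMulAction Kˣ (TA φ) where
  one_smul u := by ext <;> simp
  mul_smul k l u := by ext <;> simp <;> ring
  smul_mul k u w := by ext <;> simp <;> ring
  smul_one k := by ext <;> simp

/-- Transport along an isomorphism of fields. -/
def congr {L : Type*} [Field L] (σ : K ≃+* L) {ψ : L ≃+* L} (h : ∀ x, σ (φ x) = ψ (σ x)) :
    TA φ ≃* TA ψ where
  toFun u := ⟨σ u.fst, σ u.snd⟩
  invFun u := ⟨σ.symm u.fst, σ.symm u.snd⟩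
  left_inv u := by ext <;> simp
  right_inv u := by ext <;> simp
  map_mul' u w := by ext <;> simp [h]

theorem congr_smul {L : Type*} [Field L] (σ : K ≃+* L) {ψ : L ≃+* L} (h : ∀ x, σ (φ x) = ψ (σ x))
    (k : Kˣ) (u : TA φ) :
    congr σ h (k • u) = Units.map (σ : K →* L) k • congr σ h u := by
  ext <;> simp [congr, h]

/-- The change from `φ` to `φ⁻¹`, which commutes with the torus. -/
def flip [CharP K 2] (φ : K ≃+* K) : TA φ ≃* TA φ.symm where
  toFun u := ⟨u.fst, φ.symm u.snd + u.fst * φ.symm u.fst⟩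
  invFun u := ⟨u.fst, φ (u.snd + u.fst * φ.symm u.fst)⟩
  left_inv u := by
    have h2 : (2 : K) = 0 := CharTwo.two_eq_zero
    ext
    · rfl
    · show φ (φ.symm u.snd + u.fst * φ.symm u.fst + u.fst * φ.symm u.fst) = u.snd
      rw [add_assoc, CharTwo.add_self_eq_zero, add_zero, φ.apply_symm_apply]
  right_inv u := by
    ext
    · rfl
    · show φ.symm (φ (u.snd + u.fst * φ.symm u.fst)) + u.fst * φ.symm u.fst = u.snd
      rw [φ.symm_apply_apply, add_assoc, CharTwo.add_self_eq_zero, add_zero]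
  map_mul' u w := by
    have h2 : (2 : K) = 0 := CharTwo.two_eq_zero
    ext
    · rfl
    · simp only [mul_fst, mul_snd, map_add, map_mul, φ.symm_apply_apply]
      linear_combination (w.fst * φ.symm u.fst) * h2

theorem flip_smul [CharP K 2] (k : Kˣ) (u : TA φ) : flip φ (k • u) = k • flip φ u := by
  ext
  · rfl
  · simp [flip]
    ring

end TA

end CfsgLib.Perm.ZGroup.SuzukiUnique
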