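import Cfsg.Agent.Lib.Perm.ZGroup.Suzuki
import Cfsg.Agent.Lib.RankOne.SuzukiTwoTypeA
import Cfsg.Agent.Lib.Perm.ZGroup.SuzukiUnique.Model

/-!
# Equivariant coordinates on the kernel of a Suzuki-type Zassenhaus group

The kernel is identified with a group of type A in such a way that the two-point stabiliser acts
as the torus.  The identification is made equivariant by averaging over the two-point stabiliser,
whose order is odd.
-/

set_option autoImplicit false

namespace CfsgLib.Perm.ZGroup.SuzukiUnique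

open MulAction CfsgLib.RankOne

universe u v w

variable {G : Type u} {Ω : Type v} [Group G] [Finite G] [MulAction G Ω] [Fintype Ω] {a b : Ω}

/-- Coordinates on a Zassenhaus group of Suzuki type over the field `K`. -/
structure Coord (S : Setup G Ω a b) (K : Type w) [Field K] where
  /-- The twist. -/
  φ : K ≃+* K
  injQ : Function.Injective fun x : K => φ x * x
  ne_refl : φ ≠ RingEquiv.refl K
  /-- The coordinates on the kernel. -/
  θ : TA φ ≃* S.F
  /-- The coordinates on the two-point stabiliser. -/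
  μ : Kˣ → S.H
  μ_surj : Function.Surjective μ
  conj : ∀ (k : Kˣ) (u : TA φ), (μ k : G) * (θ u : G) * (μ k : G)⁻¹ = (θ (k • u) : G)
  /-- The involution exchanging the two points. -/
  v : G
  v_sq : v * v = 1
  v_a : v • a = b
  v_inv : ∀ h ∈ S.H, v * h * v⁻¹ = h⁻¹

/-- Averaged coordinates. -/
theorem exists_equivariant {K : Type w} [Field K] [CharP K 2] {P H : Type*} [Group P] [Finite P]
    [Group H] [Finite H] (hodd : Odd (Nat.card H)) (act : H →* MulAut P) (φ : K ≃+* K)
    (θ₀ : P ≃* TA φ) (k : H → Kˣ) (hfst : ∀ h x, (θ₀ (act h x)).fst = k h * (θ₀ x).fst)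
    (hkmul : ∀ g h, k (g * h) = k g * k h)
    (hcen : ∀ h x, (θ₀ x).fst = 0 → θ₀ (act h x) = k h • θ₀ x) :
    ∃ θ : P ≃* TA φ, ∀ h x, θ (act h x) = k h • θ x := by
  classical
  letI := Fintype.ofFinite H
  have h2 : (2 : K) = 0 := CharTwo.two_eq_zero
  let s : H → K := fun h => (k h : K) * φ (k h)
  have hs0 : ∀ h, s h ≠ 0 := fun h => mul_ne_zero (k h).ne_zero (by simp)
  have hsmul : ∀ g h, s (g * h) = s g * s h := fun g h => by
    simp only [s, hkmul, Units.val_mul, map_mul]; ring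
  let δ : H → P → K := fun h x => (θ₀ (act h x)).snd + s h * (θ₀ x).snd
  have hδadd : ∀ h x y, δ h (x * y) = δ h x + δ h y := fun h x y => by
    simp only [δ, map_mul, TA.mul_snd, hfst, s]
    linear_combination ((k h : K) * φ (k h) * (θ₀ x).fst * φ (θ₀ y).fst) * h2
  let d : P → K := fun x => ∑ g, (s g)⁻¹ * δ g x
  have hdadd : ∀ x y, d (x * y) = d x + d y := fun x y => by
    simp only [d, hδadd, mul_add, Finset.sum_add_distrib]
  have hd0 : ∀ x, (θ₀ x).fst = 0 → d x = 0 := fun x hx => Finset.sum_eq_zero fun g _ => by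
    simp only [δ, hcen g x hx, TA.smul_snd, s, CharTwo.add_self_eq_zero, mul_zero]
  have hone : ((Fintype.card H : ℕ) : K) = 1 := by
    obtain ⟨j, hj⟩ := hodd
    rw [← Nat.card_eq_fintype_card, hj]
    push_cast
    rw [h2, zero_mul, zero_add]
  have hd : ∀ h x, d (act h x) + δ h x = s h * d x := by
    intro h x
    have hstep : ∀ g, (s g)⁻¹ * δ (g * h) x = (s g)⁻¹ * δ g (act h x) + δ h x := fun g => by
      have : δ (g * h) x = δ g (act h x) + s g * δ h x := by
        simp only [δ, hsmul, map_mul, MulAut.mul_apply]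
        linear_combination (-(s g * (θ₀ (act h x)).snd)) * h2
      rw [this, mul_add, inv_mul_cancel_left₀ (hs0 g)]
    have hre : ∑ g, (s g)⁻¹ * δ (g * h) x = s h * d x := by
      simp only [d, Finset.mul_sum]
      refine Fintype.sum_equiv (Equiv.mulRight h) _ _ fun g => ?_
      simp only [Equiv.coe_mulRight, hsmul]
      field_simp [hs0]
    rw [← hre, Finset.sum_congr rfl fun g _ => hstep g, Finset.sum_add_distrib, Finset.sum_const,
      Finset.card_univ, nsmul_eq_mul, hone, one_mul]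
  let f : P →* TA φ := MonoidHom.mk' (fun x => ⟨(θ₀ x).fst, (θ₀ x).snd + d x⟩) fun x y => by
    ext
    · simp
    · simp only [map_mul, TA.mul_snd, hdadd]; ring
  have hinj : Function.Injective f := (injective_iff_map_eq_one f).mpr fun x hx => by
    have h1 : (θ₀ x).fst = 0 := congrArg TA.fst hx
    have h3 : (θ₀ x).snd + d x = 0 := congrArg TA.snd hx
    rw [hd0 x h1, add_zero] at h3
    exact θ₀.injective (by rw [map_one]; ext <;> simp [h1, h3])
  refine ⟨MulEquiv.ofBijective f ⟨hinj,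
    (Finite.injective_iff_surjective_of_equiv θ₀.toEquiv).mp hinj⟩, fun h x => ?_⟩
  ext
  · exact hfst h x
  · show (θ₀ (act h x)).snd + d (act h x) = (k h : K) * φ (k h) * ((θ₀ x).snd + d x)
    have e1 := hd h x
    simp only [δ, s] at e1
    linear_combination e1 - ((k h : K) * φ (k h) * (θ₀ x).snd) * h2

theorem exists_coord {S : Setup G Ω a b} (hT : S.IsTwoKernel) [IsSimpleGroup G] {m : ℕ}
    (hq : Nat.card S.H + 1 = 2 ^ m) (hF : Nat.card S.F = (2 ^ m) ^ 2) :
    ∃ (K : Type u) (_ : Field K) (_ : Fintype K) (_ : CharP K 2), Fintype.card K = 2 ^ m ∧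
      Nonempty (Coord S K) := by
  classical
  letI : CommGroup S.H := { (inferInstance : Group S.H) with mul_comm := hT.comm_H' }
  have hc : Nat.card (Subgroup.center S.F) = 2 ^ m := by rw [hT.card_center, hq]
  obtain ⟨K, iK, iKt, φ, hKc, hne, hinj, eF, π, hei, he, hec, hπ, hπs, hk, hsq, hact, hact'⟩ :=
    SuzukiTwoTypeA.exists_coords (φ := S.conjF) hT.two hT.trans hT.exists_noncomm hT.exists_two
      (by rw [hc, hF])
  rw [hc] at hKc
  have heF0 : eF 0 = 1 := by
    have h := he 0 0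
    rw [add_zero] at h
    exact mul_eq_left.mp h.symm
  have hπe : ∀ z, π (eF z) = 0 := fun z => (hk _).mpr ⟨z, rfl⟩
  haveI : CharP K 2 := by
    refine CharTwo.of_one_ne_zero_of_two_eq_zero one_ne_zero (hei ?_)
    rw [← one_add_one_eq_two, he, hsq, hπe, mul_zero]
  let eT : K → TA φ := fun z => ⟨0, z⟩
  have h00 : (2 : K) = 0 := CharTwo.two_eq_zero
  obtain ⟨θ₀, hθπ, hθe⟩ := SuzukiTwoTypeA.exists_iso_of_squares_compat
    (fun z : K => CharTwo.add_self_eq_zero z) (fun x => φ x * x) eF eT π TA.fst hei he hec hπ hπs hk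
    hsq (fun x y h => congrArg TA.snd h) (fun x y => by ext <;> simp [eT])
    (fun z u => by ext <;> simp [eT, add_comm]) (fun u w => rfl) (fun x => ⟨⟨x, 0⟩, rfl⟩)
    (fun u => ⟨fun h => ⟨u.snd, by ext <;> simp [eT, h]⟩, fun ⟨z, hz⟩ => hz ▸ rfl⟩)
    (fun u => by rw [TA.mul_self, mul_comm])
  choose k₀ hk0 hkπ using hact
  let k : S.H → Kˣ := fun h => Units.mk0 (k₀ h) (hk0 h)
  obtain ⟨x₁, hx₁⟩ := hπs 1
  have hku : ∀ (h : S.H) (c : K), (∀ x, π (S.conjF h x) = c * π x) → (k h : K) = c := fun h c hc => by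
    have h1 := hkπ h x₁
    rw [hc, hx₁, mul_one, mul_one] at h1
    exact h1.symm
  have hkmul : ∀ g h, k (g * h) = k g * k h := fun g h => Units.ext <| hku _ _ fun x => by
    rw [map_mul, MulAut.mul_apply, hkπ, hkπ, Units.val_mul, mul_assoc]; rfl
  have hodd : Odd (Nat.card S.H) := hT.odd_H
  obtain ⟨θ₁, hθ₁⟩ := exists_equivariant hodd S.conjF φ θ₀ k
    (fun h x => by rw [hθπ, hθπ, hkπ]; rfl) hkmul fun h x hx => by
      rw [hθπ] at hx
      obtain ⟨z, rfl⟩ := (hk x).mp hx
      obtain ⟨y, rfl⟩ : ∃ y, φ y * y = z :=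
        (Finite.injective_iff_surjective.mp hinj) z
      obtain ⟨x', hx'⟩ := hπs y
      rw [show φ y * y = φ (π x') * π x' by rw [hx'], ← hsq, map_mul, hsq, hθe, hsq, hθe, hkπ]
      ext <;> simp [eT, k, hx'] <;> ring
  have hkinj : Function.Injective k := fun g h e => by
    obtain ⟨z, hz1, -⟩ := hT.exists_invol
    have h1 : S.conjF g z = S.conjF h z := θ₁.injective (by rw [hθ₁, hθ₁, e])
    refine (inv_mul_eq_one.mp (Subtype.ext ?_ : h⁻¹ * g = 1)).symm
    refine S.eq_one_of_conj_eq (h⁻¹ * g).2 z.2 (fun e1 => hz1 (Subtype.ext e1))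
      (congrArg Subtype.val (show S.conjF (h⁻¹ * g) z = z from ?_))
    rw [map_mul, MulAut.mul_apply, h1, ← MulAut.mul_apply, ← map_mul, inv_mul_cancel, map_one,
      MulAut.one_apply]
  have hμ : ∀ c : Kˣ, ∃ h, k h = c := fun c => by
    obtain ⟨h, hh⟩ := hact' c c.ne_zero
    exact ⟨h, Units.ext (hku h c hh)⟩
  choose μ hμk using hμ
  obtain ⟨t, ht, hta, htb⟩ := S.exists_involution
  exact ⟨K, iK, iKt, inferInstance, hKc, ⟨{
    φ := φ
    injQ := hinj
    ne_refl := hne
    θ := θ₁.symm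
    μ := μ
    μ_surj := fun h => ⟨k h, hkinj (hμk _)⟩
    conj := fun c u => by
      rw [← Setup.conjF_coe]
      refine congrArg Subtype.val (θ₁.injective ?_)
      rw [hθ₁, hμk, θ₁.apply_symm_apply, θ₁.apply_symm_apply]
    v := t
    v_sq := ht
    v_a := hta
    v_inv := hT.swap t hta htb }⟩⟩

end CfsgLib.Perm.ZGroup.SuzukiUnique
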