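import Cfsg.Agent.Lib.Perm.ZGroup.SuzukiUnique.Rel
import Cfsg.Agent.Lib.Perm.ZGroup.SuzukiUnique.Alg

/-!
# The normal form of a Suzuki-type Zassenhaus group

After a suitable choice of coordinates `f (0, 1) = (1, 0)`, the twist satisfies `φ (φ x) ^ 2 = x`,
and this determines `f` completely.
-/

set_option autoImplicit false
set_option maxHeartbeats 1000000

namespace CfsgLib.Perm.ZGroup.SuzukiUnique

open MulAction

universe u v w

variable {G : Type u} {Ω : Type v} [Group G] [Finite G] [MulAction G Ω] [Fintype Ω] {a b : Ω}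
  {S : Setup G Ω a b} {K : Type w} [Field K] [Fintype K] [CharP K 2]

namespace Coord

variable (C : Coord S K)

/-- The map `x ↦ x φ(x)`. -/
abbrev Φ (x : K) : K := x * C.φ x

omit [Fintype K] [CharP K 2] in
theorem Φ_inj : Function.Injective C.Φ := fun x y h => C.injQ (by
  simp only [Φ] at h ⊢
  linear_combination h)

omit [CharP K 2] in
theorem Φ_surj : Function.Surjective C.Φ := Finite.injective_iff_surjective.mp C.Φ_inj

omit [Fintype K] [CharP K 2] in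
theorem Φ_eq_zero {x : K} : C.Φ x = 0 ↔ x = 0 := by simp [Φ]

omit [CharP K 2] in
/-- A central element is a multiple of `(0, 1)`. -/
theorem exists_zc {c : K} (hc : c ≠ 0) : ∃ l : Kˣ, C.Φ l = c := by
  obtain ⟨l, hl⟩ := C.Φ_surj c
  exact ⟨Units.mk0 l fun e => hc (by rw [← hl, e]; simp [Φ]), hl⟩

omit [Fintype K] [CharP K 2] in
theorem smul_zc (l : Kˣ) : l • (zc 1 : TA C.φ) = zc (C.Φ l) := by ext <;> simp [zc, Φ]

omit [Fintype K] [CharP K 2] in
theorem zc_ne_one {c : K} (hc : c ≠ 0) : (zc c : TA C.φ) ≠ 1 := fun e => hc (congrArg TA.snd e)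

omit [Fintype K] in
theorem zc_inv (c : K) : (zc c : TA C.φ)⁻¹ = zc c := by
  rw [TA.inv_eq]; ext <;> simp [zc]

theorem not_three_dvd (C : Coord S K) {m : ℕ} (hm : Odd m) (hK : Fintype.card K = 2 ^ m) :
    ¬ 3 ∣ Nat.card G := by
  classical
  have h0 : Nat.card (TA C.φ) = Nat.card K * Nat.card K := by
    rw [← Nat.card_prod]
    exact Nat.card_congr
      { toFun := fun u => (u.fst, u.snd)
        invFun := fun u => ⟨u.1, u.2⟩
        left_inv := fun _ => rfl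
        right_inv := fun _ => rfl }
  have hF : Nat.card S.F = 2 ^ m * 2 ^ m := by
    rw [← Nat.card_congr C.θ.toEquiv, h0, Nat.card_eq_fintype_card, hK]
  have hH : Nat.card S.H = 2 ^ m - 1 := by
    rw [← Nat.card_congr (Equiv.ofBijective C.μ ⟨C.μ_inj, C.μ_surj⟩), Nat.card_eq_fintype_card,
      Fintype.card_units, hK]
  obtain ⟨j, rfl⟩ := hm
  have hq : 2 ^ (2 * j + 1) % 3 = 2 := by
    rw [pow_succ, pow_mul, Nat.mul_mod, Nat.pow_mod]; norm_num
  have hq1 : (2 ^ (2 * j + 1) - 1) % 3 = 1 := by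
    generalize 2 ^ (2 * j + 1) = q at hq ⊢
    omega
  rw [S.card_G, hF, hH, Nat.dvd_iff_mod_eq_zero]
  simp [Nat.mul_mod, Nat.add_mod, hq, hq1]

/-- The involution can be chosen so that `f (0, 1) = (1, β)`. -/
theorem exists_scaled (C : Coord S K) {m : ℕ} (hm : Odd m) (hK : Fintype.card K = 2 ^ m) :
    ∃ (C' : Coord S K) (β : K), C'.f (zc 1) = ⟨1, β⟩ := by
  have hz : (zc 1 : TA C.φ) ≠ 1 := C.zc_ne_one one_ne_zero
  by_cases h0 : (C.f (zc 1)).fst = 0
  · exfalso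
    have hc : (C.f (zc 1)).snd ≠ 0 :=
      (TA.ne_one_iff.mp (C.f_ne_one hz)).resolve_left (not_not.mpr h0)
    obtain ⟨l, hl⟩ := C.exists_zc hc
    set C' := C.scale l⁻¹ with hC'
    have hf : C'.f (zc 1) = zc 1 := by
      refine (C.scale_f l⁻¹ hz).trans (inv_smul_eq_iff.mpr ?_)
      show C.f (zc 1) = l • (zc 1 : TA C.φ)
      rw [C.smul_zc, hl]
      ext
      · exact h0
      · rfl
    have hz' : (zc 1 : TA C'.φ) ≠ 1 := hz
    have hg : C'.g (zc 1) = zc 1 := by rw [g, C'.zc_inv, hf, C'.zc_inv]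
    have h1 := C'.f_g hz'
    rw [hg, hf, C'.zc_inv, eq_inv_smul_iff, C'.smul_zc] at h1
    have hk : C'.kk (zc 1) = 1 := Units.ext <| C'.Φ_inj (by
      rw [show C'.Φ ((1 : Kˣ) : K) = 1 by simp [Φ]]
      exact congrArg TA.snd h1)
    have h2 := C'.decomp hz'
    rw [hf, hg, hk, C'.μ_one, Subgroup.coe_one, mul_one] at h2
    set t : G := (C'.θ (zc 1) : G) with ht
    have htt : t * t = 1 := by
      rw [ht, ← Subgroup.coe_mul, ← map_mul, TA.mul_self]
      simp [zc, show (⟨0, 0⟩ : TA C'.φ) = 1 from rfl]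
    have h3 : (C'.v * t) ^ 3 = 1 := by
      calc (C'.v * t) ^ 3 = (C'.v * t * C'.v) * (t * C'.v * t) := by
            rw [pow_succ, pow_succ, pow_one]; group
        _ = t * C'.v * t * (t * C'.v * t) := by rw [h2]
        _ = t * C'.v * (t * t) * C'.v * t := by group
        _ = t * (C'.v * C'.v) * t := by rw [htt]; group
        _ = 1 := by rw [C'.v_sq, mul_one, htt]
    have hd : orderOf (C'.v * t) ∣ 3 := orderOf_dvd_of_pow_eq_one h3
    rcases (Nat.dvd_prime Nat.prime_three).mp hd with h4 | h4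
    · have h5 : (C'.v * t) • a = a := by rw [orderOf_eq_one_iff.mp h4, one_smul]
      rw [mul_smul, show t • a = a from S.hle (C'.θ _).2] at h5
      exact S.hab (h5.symm.trans C'.v_a)
    · exact C.not_three_dvd hm hK (h4 ▸ orderOf_dvd_natCard _)
  · let h : Kˣ := (Units.mk0 _ h0)⁻¹
    refine ⟨C.scale h, (h • C.f (zc 1)).snd, (C.scale_f h hz).trans ?_⟩
    ext
    · simp [h, inv_mul_cancel₀ h0]
    · rfl

section Beta

variable {β : K} (hf : C.f (zc 1) = ⟨1, β⟩)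
include hf

omit [Fintype K] in
theorem g_z : C.g (zc 1) = ⟨1, β + 1⟩ := by
  rw [g, C.zc_inv, hf, TA.inv_eq]; simp

omit [Fintype K] in
theorem kk_z : C.kk (zc 1) = 1 := by
  have hz : (zc 1 : TA C.φ) ≠ 1 := C.zc_ne_one one_ne_zero
  have e1 : zc 1 * C.f (zc 1) = C.g (zc 1) := by
    rw [C.g_z hf, hf]; ext <;> simp [zc, add_comm]
  have e2 : C.g (zc 1) * zc 1 = C.f (zc 1) := by
    rw [C.g_z hf, hf]; ext <;> simp [zc, add_assoc, CharTwo.add_self_eq_zero]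
  have h := C.f_mul hz hz (by rw [e1]; exact C.g_ne_one hz)
  rw [e1, e2, C.f_g hz, C.f_f, hf] at h
  have h1 := congrArg TA.fst h
  simp [zc, CharTwo.neg_eq] at h1
  exact h1

omit [Fintype K] in
theorem f_zc (l : Kˣ) : C.f (zc (C.Φ l)) = l⁻¹ • ⟨1, β⟩ := by
  rw [← C.smul_zc, C.f_smul, hf]

omit hf in
/-- The representative with parameter `x`. -/
def w (β x : K) : TA C.φ := ⟨1 + x, β * (1 + C.Φ x) + 1 + C.φ x⟩

theorem f_w {x : K} (hx : x ≠ 0) (hx1 : x ≠ 1) :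
    ∃ y, y ≠ 0 ∧ y ≠ 1 ∧ (C.Φ y)⁻¹ = 1 + (C.Φ x)⁻¹ ∧ C.f (C.w β x) = C.w β y := by
  have hz : (zc 1 : TA C.φ) ≠ 1 := C.zc_ne_one one_ne_zero
  have hX0 : C.Φ x ≠ 0 := fun e => hx (C.Φ_eq_zero.mp e)
  have hX1 : C.Φ x ≠ 1 := fun e => hx1 (C.Φ_inj (e.trans (by simp [Φ])))
  have hne : 1 + (C.Φ x)⁻¹ ≠ 0 := fun e => hX1 (inv_eq_one.mp (CharTwo.add_eq_zero.mp e).symm)
  obtain ⟨y, hy⟩ := C.Φ_surj (1 + (C.Φ x)⁻¹)⁻¹
  have hy' : (C.Φ y)⁻¹ = 1 + (C.Φ x)⁻¹ := by rw [hy, inv_inv]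
  have hy0 : y ≠ 0 := by
    rintro rfl
    exact inv_ne_zero hne (hy.symm.trans (C.Φ_eq_zero.mpr rfl))
  have hy1 : y ≠ 1 := by
    rintro rfl
    rw [show C.Φ 1 = 1 by simp [Φ], inv_one, eq_comm, add_eq_left, inv_eq_zero] at hy'
    exact hX0 hy'
  refine ⟨y, hy0, hy1, hy', ?_⟩
  set lx := Units.mk0 x⁻¹ (inv_ne_zero hx)
  set ly := Units.mk0 y⁻¹ (inv_ne_zero hy0)
  have hΦi : ∀ t : K, C.Φ t⁻¹ = (C.Φ t)⁻¹ := fun t => by simp [Φ, mul_comm]
  have hq := C.f_zc hf lx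
  have hq' := C.f_zc hf ly
  simp only [lx, ly, Units.val_mk0, hΦi] at hq hq'
  set q := C.f (zc (C.Φ x)⁻¹) with hqdef
  have e1 : zc 1 * C.f q = zc (C.Φ y)⁻¹ := by
    rw [hqdef, C.f_f, hy']; ext <;> simp [zc]
  have h := C.f_mul hz (C.f_ne_one (C.zc_ne_one (inv_ne_zero hX0)) : q ≠ 1)
    (by rw [e1]; exact C.zc_ne_one (inv_ne_zero (fun e => hy0 (C.Φ_eq_zero.mp e))))
  rw [e1, hf, C.kk_z hf, one_smul, hq', C.g_z hf] at h
  have e2 : (⟨1, β + 1⟩ : TA C.φ) * q = C.w β x := by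
    rw [hq, w]; ext <;> simp [Φ] <;> ring
  rw [e2] at h
  rw [← inv_mul_cancel_left (⟨1, β⟩ : TA C.φ) (C.f (C.w β x)), ← h, TA.inv_eq, w]
  ext <;> simp [Φ] <;> ring

omit hf in
/-- The class of `w β x`. -/
def L (β m : K) : K := (β + 1) * m + β * C.φ m

omit hf [Fintype K] in
theorem w_eq {m : K} (hm : m ≠ 0) :
    C.w β (m⁻¹ + 1) = (Units.mk0 m hm)⁻¹ • ⟨1, β + C.L β m⟩ := by
  have h2 : (2 : K) = 0 := CharTwo.two_eq_zero
  have hφ : C.φ m ≠ 0 := by simpa using hm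
  ext
  · simp only [w, TA.smul_fst, Units.val_inv_eq_inv_val, Units.val_mk0, mul_one]
    linear_combination h2
  · simp only [w, L, Φ, TA.smul_snd, Units.val_inv_eq_inv_val, Units.val_mk0, map_add, map_one,
      map_inv₀]
    field_simp
    grind

theorem L_ne_zero {m : K} (hm : m ≠ 0) (hm1 : m ≠ 1) : C.L β m ≠ 0 := by
  intro e
  have hx1 : m⁻¹ + 1 ≠ 1 := by simp [hm]
  have hx0 : m⁻¹ + 1 ≠ 0 := fun h => hm1 (inv_eq_one.mp (CharTwo.add_eq_zero.mp h))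
  obtain ⟨y, -, hy1, -, hfw⟩ := C.f_w hf hx0 hx1
  rw [C.w_eq hm, e, add_zero, ← hf, C.f_smul, C.f_f, inv_inv] at hfw
  have h1 := congrArg TA.fst hfw
  simp [w, zc] at h1
  exact hy1 (CharTwo.add_eq_zero.mp h1.symm).symm

theorem L_ne_one {m : K} (hm : m ≠ 0) (hm1 : m ≠ 1) : C.L β m ≠ 1 := by
  intro e
  refine C.L_ne_zero hf (m := m + 1) (fun h => hm1 (CharTwo.add_eq_zero.mp h)) (by simpa using hm) ?_
  simp only [L, map_add, map_one] at e ⊢
  have h2 : (2 : K) = 0 := CharTwo.two_eq_zero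
  linear_combination e + (β + 1) * h2

/-- The basic equation. -/
theorem equation {x : K} (hx : x ≠ 0) (hx1 : x ≠ 1) :
    ∃ y, y ≠ 0 ∧ y * C.φ y * (1 + x * C.φ x) = x * C.φ x ∧
      (C.φ y / C.φ x) * (1 + x * C.φ x) * Alg.D β x (C.φ x) = Alg.N β x (C.φ x) := by
  have h2 : (2 : K) = 0 := CharTwo.two_eq_zero
  have hz : (zc 1 : TA C.φ) ≠ 1 := C.zc_ne_one one_ne_zero
  have hr : C.φ x ≠ 0 := by simpa using hx
  have hx1' : 1 + x ≠ 0 := fun e => hx1 (CharTwo.add_eq_zero.mp e).symm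
  obtain ⟨y, hy0, -, hyx, hfw⟩ := C.f_w hf hx hx1
  have hs : C.φ y ≠ 0 := by simpa using hy0
  have hy : y * C.φ y * (1 + x * C.φ x) = x * C.φ x := by
    simp only [Φ] at hyx
    field_simp at hyx
    grind
  refine ⟨y, hy0, hy, ?_⟩
  set m := (1 + x)⁻¹ with hm
  have hm0 : m ≠ 0 := inv_ne_zero hx1'
  have hm1 : m ≠ 1 := fun e => hx (by
    have h3 := inv_eq_one.mp e
    linear_combination h3)
  have hmx : m⁻¹ + 1 = x := by rw [hm, inv_inv]; linear_combination h2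
  have hm' : m + 1 ≠ 0 := fun e => hm1 (CharTwo.add_eq_zero.mp e)
  have hm'x : (m + 1)⁻¹ + 1 = x⁻¹ := by
    have : m + 1 = x / (1 + x) := by rw [hm]; field_simp; linear_combination h2
    rw [this, inv_div]
    field_simp
    linear_combination x * h2
  set c := C.L β m with hc
  obtain ⟨l, hl⟩ : ∃ l : Kˣ, C.Φ l = c := C.exists_zc (C.L_ne_zero hf hm0 hm1)
  have hfq : C.f (zc c) = l⁻¹ • ⟨1, β⟩ := by rw [← hl, C.f_zc hf]
  have hw1 := C.w_eq (β := β) hm0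
  rw [hmx, ← hc, eq_inv_smul_iff] at hw1
  have hw2 := C.w_eq (β := β) hm'
  rw [hm'x, eq_inv_smul_iff] at hw2
  have e1 : zc 1 * C.f (zc c) = (l⁻¹ * Units.mk0 m hm0) • C.w β x := by
    rw [hfq, mul_smul, hw1]
    ext
    · simp [zc]
    · simp only [zc, TA.mul_snd, TA.smul_snd, zero_mul, add_zero, Units.val_inv_eq_inv_val, map_inv₀]
      have hl0 := l.ne_zero
      have hl1 : C.φ (l : K) ≠ 0 := by simp
      simp only [Φ] at hl
      field_simp
      linear_combination hl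
  have e2 : C.g (zc 1) * zc c = Units.mk0 (m + 1) hm' • C.w β x⁻¹ := by
    rw [C.g_z hf, hw2]
    ext
    · simp [zc]
    · simp only [zc, TA.mul_snd, map_zero, mul_zero, add_zero, hc, L, map_add, map_one]
      linear_combination (-β : K) * h2
  have h := C.f_mul hz (C.zc_ne_one (C.L_ne_zero hf hm0 hm1 : c ≠ 0)) (by
    rw [e1]
    refine C.smul_ne_one _ (TA.ne_one_iff.mpr (Or.inl ?_))
    exact hx1')
  obtain ⟨y', hy'0, -, hyx', hfw'⟩ := C.f_w hf (inv_ne_zero hx) (fun e => hx1 (inv_eq_one.mp e))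
  have hy' : y' = y / x := by
    refine C.Φ_inj (inv_injective ?_)
    rw [hyx']
    simp only [Φ, map_div₀, map_inv₀] at hyx ⊢
    field_simp at hyx ⊢
    grind
  rw [e1, e2, C.kk_z hf, one_smul, C.f_smul, C.f_smul, hfw, hfw', hf, hy'] at h
  have hsnd := congrArg TA.snd h
  simp only [w, Φ, TA.mul_snd, TA.smul_snd, TA.smul_fst, Units.val_inv_eq_inv_val, Units.val_mul,
    Units.val_mk0, map_mul, map_inv₀, map_add, map_one, map_div₀, one_mul, mul_inv_rev,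
    inv_inv] at hsnd
  refine Alg.first hx hr hy ?_
  have hl0 := l.ne_zero
  have hl1 : C.φ (l : K) ≠ 0 := by simp
  have hc' : (l : K) * C.φ l = ((β + 1) * (1 + C.φ x) + β * (1 + x)) / ((1 + x) * (1 + C.φ x)) := by
    have hr1 : 1 + C.φ x ≠ 0 := fun e => hx1' (C.φ.injective (by rw [map_add, map_one, e, map_zero]))
    simp only [Φ] at hl
    rw [hl, hc, L, hm, map_inv₀, map_add, map_one]
    field_simp
  have hmm : ((1 + x)⁻¹ + 1) = x / (1 + x) := by field_simp; linear_combination h2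
  have hmm' : ((1 + C.φ x)⁻¹ + 1) = C.φ x / (1 + C.φ x) := by
    have hr1 : 1 + C.φ x ≠ 0 := fun e => hx1' (C.φ.injective (by rw [map_add, map_one, e, map_zero]))
    field_simp; linear_combination h2
  have hr1 : 1 + C.φ x ≠ 0 := fun e => hx1' (C.φ.injective (by rw [map_add, map_one, e, map_zero]))
  simp only [hm, map_inv₀, map_add, map_one, inv_inv, hmm, hmm', inv_div] at hsnd
  calc _ = ((1 + x) * (1 + C.φ x)) * ((l : K) * C.φ l) *
          (β * (1 + y * C.φ y) + 1 + C.φ y) := by rw [hc']; field_simp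
    _ = _ := by
      field_simp at hsnd ⊢
      linear_combination hsnd

/-- The parameter `β` is `0` or `1`. -/
theorem beta_cases : β = 0 ∨ β = 1 := by
  have h2 : (2 : K) = 0 := CharTwo.two_eq_zero
  by_contra hβ
  push Not at hβ
  have main : ∀ x : K, x ≠ 0 → x ≠ 1 → C.φ x ≠ x →
      β * (x + C.φ x) * (1 + x * C.φ x ^ 2) = C.φ x * (1 + C.φ x) * (1 + x) ^ 2 := by
    intro x hx hx1 hne
    have hr : C.φ x ≠ 0 := by simpa using hx
    have hU : 1 + x * C.φ x ≠ 0 := fun e =>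
      hx1 (C.Φ_inj ((CharTwo.add_eq_zero.mp e).symm.trans (by simp [Φ])))
    obtain ⟨y, hy0, hy, he⟩ := C.equation hf hx hx1
    obtain ⟨y', -, hy', he'⟩ := C.equation hf (inv_ne_zero hx) (fun e => hx1 (inv_eq_one.mp e))
    have hyy : y' = y / x := by
      refine C.Φ_inj ?_
      simp only [Φ, map_div₀, map_inv₀] at hy' ⊢
      have hU' : 1 + x⁻¹ * (C.φ x)⁻¹ ≠ 0 := by
        field_simp
        rw [add_comm]
        simpa [hx, hr] using hU
      refine mul_right_cancel₀ hU' (hy'.trans ?_)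
      field_simp
      linear_combination -hy
    rw [hyy, map_div₀, map_inv₀] at he'
    have hb := Alg.bracket hx hr hU he (s := C.φ y) (by
      rw [← he']; field_simp)
    have hS : x + C.φ x ≠ 0 := fun e => hne (CharTwo.add_eq_zero.mp e).symm
    have hβ1 : β + 1 ≠ 0 := fun e => hβ.2 (CharTwo.add_eq_zero.mp e)
    simp only [mul_eq_zero, hβ.1, hS, hβ1, false_or] at hb
    exact CharTwo.add_eq_zero.mp hb
  obtain ⟨x, hx⟩ : ∃ x, C.φ x ≠ x := by
    by_contra h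
    push Not at h
    exact C.ne_refl (RingEquiv.ext h)
  have hx0 : x ≠ 0 := fun e => hx (by rw [e, map_zero])
  have hx1 : x ≠ 1 := fun e => hx (by rw [e, map_one])
  have hxx : C.φ (x ^ 2) ≠ x ^ 2 := fun e => hx (by
    rw [map_pow] at e
    exact CharTwo.sq_inj.mp e)
  have h1 := main x hx0 hx1 hx
  have h3 := main (x ^ 2) (pow_ne_zero _ hx0)
    (fun e => hx1 (CharTwo.sq_inj.mp (e.trans (one_pow 2).symm))) hxx
  rw [map_pow] at h3
  have hM : C.φ x * (1 + C.φ x) * (1 + x) ^ 2 ≠ 0 := by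
    have ha : (1 : K) + x ≠ 0 := fun e => hx1 (CharTwo.add_eq_zero.mp e).symm
    have hb : 1 + C.φ x ≠ 0 := fun e => ha (C.φ.injective (by rw [map_add, map_one, e, map_zero]))
    simp [ha, hb, hx0]
  have e1 : x ^ 2 + C.φ x ^ 2 = (x + C.φ x) ^ 2 := (CharTwo.add_sq _ _).symm
  have e2 : 1 + x ^ 2 * (C.φ x ^ 2) ^ 2 = (1 + x * C.φ x ^ 2) ^ 2 := by
    rw [CharTwo.add_sq]; ring
  have e3 : C.φ x ^ 2 * (1 + C.φ x ^ 2) * (1 + x ^ 2) ^ 2 =
      (C.φ x * (1 + C.φ x) * (1 + x) ^ 2) ^ 2 := by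
    have hs : ∀ t : K, 1 + t ^ 2 = (1 + t) ^ 2 := fun t => by rw [CharTwo.add_sq, one_pow]
    rw [hs, hs]
    ring
  rw [e1, e2, e3, ← h1] at h3
  have h4 : (β * β + β) * ((x + C.φ x) * (1 + x * C.φ x ^ 2)) ^ 2 = 0 := by
    linear_combination h3 + (β * β * ((x + C.φ x) * (1 + x * C.φ x ^ 2)) ^ 2) * h2
  rw [← h1, mul_assoc] at hM
  rcases mul_eq_zero.mp h4 with h5 | h5
  · rw [show β * β + β = β * (β + 1) by ring, mul_eq_zero] at h5
    exact h5.elim hβ.1 fun e => hβ.2 (CharTwo.add_eq_zero.mp e)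
  · exact right_ne_zero_of_mul hM (pow_eq_zero_iff two_ne_zero |>.mp h5)

end Beta

/-- The normal form. -/
def Normal : Prop := C.f (zc 1) = ⟨1, 0⟩

theorem exists_normal (C : Coord S K) {m : ℕ} (hm : Odd m) (hK : Fintype.card K = 2 ^ m) :
    ∃ C' : Coord S K, C'.Normal := by
  obtain ⟨C', β, hf⟩ := C.exists_scaled hm hK
  rcases C'.beta_cases hf with rfl | rfl
  · exact ⟨C', hf⟩
  · refine ⟨C'.flip, ?_⟩
    have hz : (zc 1 : TA C'.φ) ≠ 1 := C'.zc_ne_one one_ne_zero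
    have h := C'.flip_f hz
    rw [hf] at h
    have e1 : TA.flip C'.φ (zc 1) = zc 1 := by ext <;> simp [TA.flip, zc]
    have e2 : TA.flip C'.φ ⟨1, 1⟩ = ⟨1, 0⟩ := by ext <;> simp [TA.flip, CharTwo.add_self_eq_zero]
    rw [e1, e2] at h
    exact h

variable {C}

theorem Normal.twist (hN : C.Normal) (x : K) : C.φ (C.φ x) ^ 2 = x := by
  have h2 : (2 : K) = 0 := CharTwo.two_eq_zero
  by_cases hx : x = 0
  · simp [hx]
  by_cases hx1 : x = 1
  · simp [hx1]
  obtain ⟨y, hy0, hy, he⟩ := C.equation hN hx hx1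
  have hp : x + 1 ≠ 0 := fun e => hx1 (CharTwo.add_eq_zero.mp e)
  have hr : C.φ x + 1 ≠ 0 := fun e => hp (C.φ.injective (by rw [map_add, map_one, e, map_zero]))
  have hr0 : C.φ x ≠ 0 := by simpa using hx
  have h1 : C.φ y * (1 + x * C.φ x ^ 2) = C.φ x * (1 + x * C.φ x) := by
    simp only [Alg.D, Alg.N, zero_mul, zero_add, add_zero, ne_eq, OfNat.ofNat_ne_zero,
      not_false_eq_true, zero_pow] at he
    field_simp at he
    have h3 : (1 + C.φ x) * (1 + x * C.φ x) ≠ 0 := by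
      refine mul_ne_zero (by rwa [add_comm]) fun e => hx1 ?_
      exact C.Φ_inj ((CharTwo.add_eq_zero.mp e).symm.trans (by simp [Φ]))
    refine mul_left_cancel₀ h3 ?_
    linear_combination he
  have h3 : y * (1 + x * C.φ x) ^ 2 = x * (1 + x * C.φ x ^ 2) := by
    refine mul_right_cancel₀ (show C.φ y ≠ 0 by simpa using hy0) ?_
    linear_combination (1 + x * C.φ x) * hy - x * h1
  have h4 := congrArg C.φ h3
  simp only [map_mul, map_add, map_one, map_pow] at h4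
  refine Alg.twist hp hr hr0 (mul_left_cancel₀ hr0 ?_)
  linear_combination (1 + C.φ x * C.φ (C.φ x)) ^ 2 * h1 - (1 + x * C.φ x ^ 2) * h4

/-- The normal form determines `f`. -/
theorem Normal.f_eq {G' : Type*} {Ω' : Type*} [Group G'] [Finite G'] [MulAction G' Ω'] [Fintype Ω']
    {a' b' : Ω'} {S' : Setup G' Ω' a' b'} {C' : Coord S' K} (hN : C.Normal) (hN' : C'.Normal)
    {φ₀ : K ≃+* K} (hφ : C.φ = φ₀) (hφ' : C'.φ = φ₀) (u : TA φ₀) :
    hφ ▸ C.f (hφ.symm ▸ u) = hφ' ▸ C'.f (hφ'.symm ▸ u) := by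
  subst hφ
  obtain ⟨φ', hi', hr', θ', μ', hμ', hc', v', hv1', hv2', hv3'⟩ := C'
  change φ' = C.φ at hφ'
  subst hφ'
  set C' : Coord S' K := ⟨C.φ, hi', hr', θ', μ', hμ', hc', v', hv1', hv2', hv3'⟩
  show C.f u = C'.f u
  by_cases hu : u = 1
  · subst hu
    exact C.f_one.trans C'.f_one.symm
  have h2 : (2 : K) = 0 := CharTwo.two_eq_zero
  have hzero : C.f (zc 1) = C'.f (zc 1) := hN.trans hN'.symm
  have hg : C.f (C.g (zc 1)) = C'.f (C'.g (zc 1)) := by
    rw [C.f_g (C.zc_ne_one one_ne_zero), C'.f_g (C'.zc_ne_one one_ne_zero), C.kk_z hN, C'.kk_z hN']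
    exact congrArg (fun w : TA C.φ => (1 : Kˣ)⁻¹ • w⁻¹) hzero
  by_cases hu0 : u.fst = 0
  · have hb : u.snd ≠ 0 := (TA.ne_one_iff.mp hu).resolve_left (not_not.mpr hu0)
    obtain ⟨l, hl⟩ := C.exists_zc hb
    have : u = zc (C.Φ l) := by
      ext
      · exact hu0
      · exact hl.symm
    rw [this]
    exact (C.f_zc hN l).trans (C'.f_zc hN' l).symm
  · set l := Units.mk0 _ hu0
    set m := u.snd / C.Φ u.fst with hm
    have hPhi : C.Φ u.fst ≠ 0 := fun e => hu0 (C.Φ_eq_zero.mp e)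
    have hu' : u = l • (⟨1, m⟩ : TA C.φ) := by
      ext
      · simp [l]
      · exact (mul_div_cancel₀ _ hPhi).symm
    rw [hu', C.f_smul, C'.f_smul]
    congr 1
    by_cases hm0 : m = 0
    · rw [hm0]
      exact ((congrArg C.f hN.symm).trans (C.f_f _)).trans
        ((congrArg C'.f hN'.symm).trans (C'.f_f _)).symm
    by_cases hm1 : m = 1
    · have hg1 : C.g (zc 1) = ⟨1, 1⟩ := by rw [C.g_z hN]; simp
      have hg1' : C'.g (zc 1) = ⟨1, 1⟩ := by rw [C'.g_z hN']; simp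
      rw [hg1, hg1'] at hg
      rw [hm1]
      exact hg
    have hx1 : m⁻¹ + 1 ≠ 1 := by simp [hm0]
    have hx0 : m⁻¹ + 1 ≠ 0 := fun h => hm1 (inv_eq_one.mp (CharTwo.add_eq_zero.mp h))
    obtain ⟨y, -, -, hy, hw⟩ := C.f_w hN hx0 hx1
    obtain ⟨y', -, -, hy', hw'⟩ := C'.f_w hN' hx0 hx1
    have hyy : y = y' := C.Φ_inj (inv_injective (hy.trans hy'.symm))
    have hww : C.f (C.w 0 (m⁻¹ + 1)) = C'.f (C'.w 0 (m⁻¹ + 1)) := by
      rw [hw, hw', hyy]; rfl
    rw [C.w_eq hm0, C'.w_eq hm0, C.f_smul, C'.f_smul] at hww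
    have hL : (⟨1, 0 + C.L 0 m⟩ : TA C.φ) = ⟨1, m⟩ := by ext <;> simp [L]
    have hL' : (⟨1, 0 + C'.L 0 m⟩ : TA C.φ) = ⟨1, m⟩ := by ext <;> simp [L]
    rw [hL, hL'] at hww
    exact smul_left_cancel _ hww

end Coord

end CfsgLib.Perm.ZGroup.SuzukiUnique
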