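import Cfsg.Agent.Lib.Perm.ZGroup.SuzukiUnique.Coords

/-!
# The involution of a Suzuki-type Zassenhaus group in coordinates

The involution exchanging the two points maps the point `u • b` to `f u • b`; this gives the
structure equations of the group.
-/

set_option autoImplicit false

namespace CfsgLib.Perm.ZGroup.SuzukiUnique

open MulAction

universe u v w

variable {G : Type u} {Ω : Type v} [Group G] [Finite G] [MulAction G Ω] [Fintype Ω] {a b : Ω}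
  {S : Setup G Ω a b} {K : Type w} [Field K]

/-- A central element. -/
def zc {φ : K ≃+* K} (c : K) : TA φ := ⟨0, c⟩

namespace Coord

variable (C : Coord S K)

/-- The point with coordinates `u`. -/
def pt (u : TA C.φ) : Ω := (C.θ u : G) • b

theorem pt_ne_a (u : TA C.φ) : C.pt u ≠ a := S.F_smul_ne _ (C.θ u).2 S.hab.symm

theorem pt_inj {u w : TA C.φ} (h : C.pt u = C.pt w) : u = w :=
  C.θ.injective (Subtype.ext (S.F_eq_of_smul (C.θ u).2 (C.θ w).2 h))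

theorem pt_surj {y : Ω} (hy : y ≠ a) : ∃ u, C.pt u = y := by
  obtain ⟨w, hw, e⟩ := S.F_exists hy
  exact ⟨C.θ.symm ⟨w, hw⟩, by rw [pt, C.θ.apply_symm_apply]; exact e⟩

theorem pt_one : C.pt 1 = b := by rw [pt, map_one, Subgroup.coe_one, one_smul]

theorem θ_pt (u w : TA C.φ) : (C.θ u : G) • C.pt w = C.pt (u * w) := by
  rw [pt, pt, map_mul, Subgroup.coe_mul, mul_smul]

theorem μ_pt (k : Kˣ) (u : TA C.φ) : (C.μ k : G) • C.pt u = C.pt (k • u) := by
  rw [pt, S.conj_smul_b (C.μ k).2, C.conj]; rfl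

theorem μ_inj : Function.Injective C.μ := by
  intro k l h
  have h1 := C.conj k ⟨1, 0⟩
  rw [h, C.conj] at h1
  have h2 := congrArg TA.fst (C.θ.injective (Subtype.ext h1))
  simp only [TA.smul_fst, mul_one] at h2
  exact Units.ext h2.symm

theorem μ_mul (k l : Kˣ) : C.μ (k * l) = C.μ k * C.μ l := by
  obtain ⟨j, hj⟩ := C.μ_surj (C.μ k * C.μ l)
  rw [← hj]
  congr 1
  have h1 := C.conj j ⟨1, 0⟩
  rw [hj, Subgroup.coe_mul, mul_inv_rev] at h1
  have h2 : (C.μ k : G) * ((C.μ l : G) * (C.θ ⟨1, 0⟩ : G) * (C.μ l : G)⁻¹) * (C.μ k : G)⁻¹ =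
      (C.θ (k • l • ⟨1, 0⟩) : G) := by rw [C.conj, C.conj]
  have h3 : (C.θ (k • l • (⟨1, 0⟩ : TA C.φ)) : G) = (C.θ (j • ⟨1, 0⟩) : G) := by
    rw [← h2, ← h1]; group
  have h4 := congrArg TA.fst (C.θ.injective (Subtype.ext h3))
  simp only [TA.smul_fst, mul_one] at h4
  exact Units.ext (by simpa using h4)

theorem μ_one : C.μ 1 = 1 := by
  have h := C.μ_mul 1 1
  rw [one_mul] at h
  exact left_eq_mul.mp h

theorem μ_inv (k : Kˣ) : C.μ k⁻¹ = (C.μ k)⁻¹ :=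
  eq_inv_of_mul_eq_one_left (by rw [← C.μ_mul, inv_mul_cancel, C.μ_one])

theorem v_inv_self : C.v⁻¹ = C.v := inv_eq_of_mul_eq_one_left C.v_sq

theorem v_b : C.v • b = a :=
  (congrArg (C.v • ·) C.v_a).symm.trans (by simp only [smul_smul, C.v_sq, one_smul])

theorem v_μ (k : Kˣ) : C.v * (C.μ k : G) = (C.μ k⁻¹ : G) * C.v := by
  have h := C.v_inv _ (C.μ k).2
  rw [C.μ_inv, Subgroup.coe_inv, ← h]
  group

theorem v_pt_ne_a {u : TA C.φ} (hu : u ≠ 1) : C.v • C.pt u ≠ a := fun e => hu <| by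
  have h : C.pt u = C.v • a := by
    conv_lhs => rw [← one_smul G (C.pt u), ← C.v_sq, mul_smul, e]
  exact C.pt_inj (h.trans (C.v_a.trans C.pt_one.symm))

/-- The map induced by the involution. -/
noncomputable def f (u : TA C.φ) : TA C.φ := by
  classical exact if h : u = 1 then 1 else (C.pt_surj (C.v_pt_ne_a h)).choose

theorem v_pt {u : TA C.φ} (hu : u ≠ 1) : C.v • C.pt u = C.pt (C.f u) := by
  rw [f, dif_neg hu]
  exact (C.pt_surj (C.v_pt_ne_a hu)).choose_spec.symm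

theorem f_one : C.f 1 = 1 := by rw [f, dif_pos rfl]

theorem f_eq {u w : TA C.φ} (hu : u ≠ 1) (h : C.v • C.pt u = C.pt w) : C.f u = w :=
  C.pt_inj ((C.v_pt hu).symm.trans h)

theorem f_ne_one {u : TA C.φ} (hu : u ≠ 1) : C.f u ≠ 1 := by
  intro e
  have h := C.v_pt hu
  rw [e, C.pt_one, smul_eq_iff_eq_inv_smul, C.v_inv_self] at h
  exact C.pt_ne_a u (h.trans C.v_b)

theorem f_f (u : TA C.φ) : C.f (C.f u) = u := by
  by_cases hu : u = 1
  · rw [hu, C.f_one, C.f_one]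
  · refine C.f_eq (C.f_ne_one hu) ?_
    rw [← C.v_pt hu, smul_smul, C.v_sq, one_smul]

theorem smul_ne_one {u : TA C.φ} (k : Kˣ) (hu : u ≠ 1) : k • u ≠ 1 := fun e => hu <| by
  rw [← inv_smul_smul k u, e, smul_one]

theorem f_smul (k : Kˣ) (u : TA C.φ) : C.f (k • u) = k⁻¹ • C.f u := by
  by_cases hu : u = 1
  · rw [hu, smul_one, C.f_one, smul_one]
  · refine C.f_eq (C.smul_ne_one k hu) ?_
    rw [← C.μ_pt, ← C.μ_pt, ← C.v_pt hu, smul_smul, smul_smul, C.v_μ]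

/-- The right-hand element in the decomposition of `v * u * v`. -/
noncomputable def g (u : TA C.φ) : TA C.φ := (C.f u⁻¹)⁻¹

theorem uniq {p p' q q' : TA C.φ} {k k' : Kˣ}
    (h : (C.θ p : G) * C.μ k * C.v * C.θ q = C.θ p' * C.μ k' * C.v * C.θ q') :
    p = p' ∧ k = k' ∧ q = q' := by
  have hb : ∀ (p q : TA C.φ) (k : Kˣ),
      ((C.θ p : G) * C.μ k * C.v * C.θ q) • a = C.pt p := fun p q k => by
    rw [mul_smul, mul_smul, mul_smul, S.hle (C.θ q).2, C.v_a, (C.μ k).2.2]; rfl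
  have hp : p = p' := C.pt_inj (by rw [← hb p q k, h, hb])
  subst hp
  rw [mul_assoc (C.θ p : G), mul_assoc (C.θ p : G), mul_assoc (C.θ p : G), mul_assoc (C.θ p : G),
    mul_right_inj] at h
  have h' : (C.μ (k⁻¹ * k')⁻¹ : G) = (C.θ q : G) * (C.θ q' : G)⁻¹ := by
    have e : C.v * ((C.μ k : G)⁻¹ * C.μ k') * C.v⁻¹ = (C.θ q : G) * (C.θ q' : G)⁻¹ := by
      have hq : (C.θ q : G) = ((C.μ k : G) * C.v)⁻¹ * ((C.μ k' : G) * C.v * C.θ q') :=
        eq_inv_mul_iff_mul_eq.mpr (by rw [h])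
      rw [hq, C.v_inv_self, mul_inv_rev, C.v_inv_self]
      group
    rw [← e, C.μ_inv, C.μ_mul, C.μ_inv, Subgroup.coe_inv, Subgroup.coe_mul, Subgroup.coe_inv,
      C.v_inv _ (mul_mem (inv_mem (C.μ k).2) (C.μ k').2)]
  have h1 : (C.μ (k⁻¹ * k')⁻¹ : G) = 1 := S.eq_one_of_mem_inf
    (h' ▸ mul_mem (C.θ q).2 (inv_mem (C.θ q').2)) (C.μ _).2
  refine ⟨rfl, inv_mul_eq_one.mp (inv_eq_one.mp (C.μ_inj ?_)), C.θ.injective (Subtype.ext ?_)⟩
  · rw [C.μ_one]; exact Subtype.ext h1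
  · rw [h1, eq_comm, mul_inv_eq_one] at h'
    exact h'

theorem exists_decomp {u : TA C.φ} (hu : u ≠ 1) :
    ∃ k : Kˣ, C.v * C.θ u * C.v = C.θ (C.f u) * C.μ k * C.v * C.θ (C.g u) := by
  have hex : ∀ w : TA C.φ, w ≠ 1 → ∃ (k : Kˣ) (q : TA C.φ),
      C.v * C.θ w * C.v = C.θ (C.f w) * C.μ k * C.v * C.θ q := by
    intro w hw
    have ha : (C.v * (C.θ (C.f w) : G)⁻¹ * (C.v * C.θ w * C.v)) • a = a := by
      rw [mul_smul, mul_smul, mul_smul, mul_smul, C.v_a]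
      change C.v • (C.θ (C.f w) : G)⁻¹ • C.v • C.pt w = a
      rw [C.v_pt hw, pt, inv_smul_smul, C.v_b]
    obtain ⟨u', hu', h, hh, e⟩ := S.exists_mul ha
    obtain ⟨l, hl⟩ := C.μ_surj ⟨h, hh⟩
    have hlh : (C.μ l : G) = h := congrArg Subtype.val hl
    subst hlh
    refine ⟨l⁻¹, C.θ.symm ⟨(C.μ l : G)⁻¹ * u' * C.μ l, ?_⟩, ?_⟩
    · have := S.F_conj (inv_mem (C.μ l).2 : (C.μ l : G)⁻¹ ∈ S.H).1 hu'
      rwa [inv_inv] at this
    · rw [C.θ.apply_symm_apply, mul_assoc (C.θ (C.f w) : G), ← C.v_μ]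
      calc C.v * (C.θ w : G) * C.v
          = (C.θ (C.f w) : G) * C.v⁻¹ *
              (C.v * (C.θ (C.f w) : G)⁻¹ * (C.v * C.θ w * C.v)) := by group
        _ = (C.θ (C.f w) : G) * (C.v * C.μ l) * ((C.μ l : G)⁻¹ * u' * C.μ l) := by
          rw [e, C.v_inv_self]; group
  obtain ⟨k, q, hq⟩ := hex u hu
  obtain ⟨k', q', hq'⟩ := hex u⁻¹ (inv_ne_one.mpr hu)
  refine ⟨k, ?_⟩
  have h : (C.θ q⁻¹ : G) * C.μ k * C.v * C.θ (C.f u)⁻¹ =
      C.θ (C.f u⁻¹) * C.μ k' * C.v * C.θ q' := by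
    rw [← hq']
    have h2 := congrArg Inv.inv hq
    simp only [mul_inv_rev, C.v_inv_self] at h2
    rw [map_inv, map_inv, map_inv, Subgroup.coe_inv, Subgroup.coe_inv, Subgroup.coe_inv]
    have h3 : (C.μ k : G) * C.v = C.v * (C.μ k : G)⁻¹ := by
      have := C.v_μ k⁻¹
      rw [inv_inv, C.μ_inv, Subgroup.coe_inv] at this
      exact this.symm
    rw [mul_assoc (C.θ q : G)⁻¹, h3, mul_assoc C.v (C.θ u : G)⁻¹, h2]
    group
  obtain ⟨h1, -, -⟩ := C.uniq h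
  rw [hq, g, ← h1, inv_inv]

/-- The torus part of `v * u * v`. -/
noncomputable def kk (u : TA C.φ) : Kˣ := by
  classical exact if h : u = 1 then 1 else (C.exists_decomp h).choose

theorem decomp {u : TA C.φ} (hu : u ≠ 1) :
    C.v * C.θ u * C.v = C.θ (C.f u) * C.μ (C.kk u) * C.v * C.θ (C.g u) := by
  rw [kk, dif_neg hu]
  exact (C.exists_decomp hu).choose_spec

theorem g_ne_one {u : TA C.φ} (hu : u ≠ 1) : C.g u ≠ 1 :=
  inv_ne_one.mpr (C.f_ne_one (inv_ne_one.mpr hu))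

theorem g_smul (k : Kˣ) (u : TA C.φ) : C.g (k • u) = k⁻¹ • C.g u := by
  rw [g, g, ← smul_inv', C.f_smul, smul_inv']

theorem μ_inv_coe (k : Kˣ) : (C.μ k⁻¹ : G) = (C.μ k : G)⁻¹ := by rw [C.μ_inv, Subgroup.coe_inv]

theorem kk_smul (k : Kˣ) {u : TA C.φ} (hu : u ≠ 1) : C.kk (k • u) = k⁻¹ * C.kk u * k⁻¹ := by
  have h := C.decomp (C.smul_ne_one k hu)
  rw [← C.conj, C.f_smul, C.g_smul] at h
  have hA : C.v * (C.μ k : G) = (C.μ k : G)⁻¹ * C.v := by rw [C.v_μ, C.μ_inv_coe]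
  have hA' : C.v * (C.μ k : G)⁻¹ = (C.μ k : G) * C.v := by
    rw [← C.μ_inv_coe, C.v_μ, inv_inv]
  have h1 : C.v * ((C.μ k : G) * C.θ u * (C.μ k : G)⁻¹) * C.v =
      (C.μ k : G)⁻¹ * (C.v * C.θ u * C.v) * C.μ k := by
    calc _ = (C.v * (C.μ k : G)) * C.θ u * ((C.μ k : G)⁻¹ * C.v) := by group
      _ = ((C.μ k : G)⁻¹ * C.v) * C.θ u * (C.v * C.μ k) := by rw [hA]
      _ = _ := by group
  have h2 : (C.μ k : G)⁻¹ * (C.θ (C.f u) * C.μ (C.kk u) * C.v * C.θ (C.g u)) * (C.μ k : G) =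
      C.θ (k⁻¹ • C.f u) * C.μ (k⁻¹ * C.kk u * k⁻¹) * C.v * C.θ (k⁻¹ • C.g u) := by
    rw [← C.conj, ← C.conj, C.μ_mul, C.μ_mul, Subgroup.coe_mul, Subgroup.coe_mul, C.μ_inv_coe,
      inv_inv]
    calc _ = (C.μ k : G)⁻¹ * C.θ (C.f u) * C.μ (C.kk u) * (C.v * C.θ (C.g u)) * C.μ k := by group
      _ = (C.μ k : G)⁻¹ * C.θ (C.f u) * C.μ (C.kk u) * (C.μ k : G)⁻¹ * ((C.μ k : G) * C.v) *
          C.θ (C.g u) * C.μ k := by group
      _ = _ := by rw [← hA']; group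
  rw [h1, C.decomp hu] at h
  exact (C.uniq (h.symm.trans h2)).2.1

theorem f_g {u : TA C.φ} (hu : u ≠ 1) : C.f (C.g u) = (C.kk u)⁻¹ • (C.f u)⁻¹ := by
  have h := congrArg (fun x => (C.v * x) • b) (C.decomp hu)
  simp only [← mul_assoc, C.v_sq, one_mul, mul_smul, C.v_b] at h
  rw [show (C.θ u : G) • a = a from S.hle (C.θ u).2] at h
  change a = C.v • (C.θ (C.f u) : G) • (C.μ (C.kk u) : G) • C.v • C.pt (C.g u) at h
  rw [C.v_pt (C.g_ne_one hu), C.μ_pt, C.θ_pt, eq_comm, smul_eq_iff_eq_inv_smul, C.v_inv_self,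
    C.v_a] at h
  rw [← eq_inv_of_mul_eq_one_right (C.pt_inj (h.trans C.pt_one.symm)), inv_smul_smul]

/-- The functional equation. -/
theorem f_mul {u q : TA C.φ} (hu : u ≠ 1) (hq : q ≠ 1) (huq : u * C.f q ≠ 1) :
    C.f (u * C.f q) = C.f u * C.kk u • C.f (C.g u * q) := by
  have h := congrArg (· • C.pt q) (C.decomp hu)
  simp only [mul_smul, C.v_pt hq, C.θ_pt, C.v_pt huq] at h
  by_cases h1 : C.g u * q = 1
  · rw [h1, C.pt_one, C.v_b, (C.μ _).2.1, S.hle (C.θ _).2] at h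
    exact absurd h (C.pt_ne_a _)
  · rw [C.v_pt h1, C.μ_pt, C.θ_pt] at h
    exact C.pt_inj h

/-- Another choice of the involution. -/
def scale (h : Kˣ) : Coord S K where
  φ := C.φ
  injQ := C.injQ
  ne_refl := C.ne_refl
  θ := C.θ
  μ := C.μ
  μ_surj := C.μ_surj
  conj := C.conj
  v := (C.μ h : G) * C.v
  v_sq := by
    rw [mul_assoc, ← mul_assoc C.v, C.v_μ, mul_assoc, C.v_sq, mul_one, C.μ_inv, Subgroup.coe_inv,
      mul_inv_cancel]
  v_a := by rw [mul_smul, C.v_a]; exact (C.μ h).2.2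
  v_inv := by
    intro x hx
    obtain ⟨l, hl⟩ := C.μ_surj ⟨x, hx⟩
    have hlx : (C.μ l : G) = x := congrArg Subtype.val hl
    calc (C.μ h : G) * C.v * x * ((C.μ h : G) * C.v)⁻¹
        = (C.μ h : G) * (C.v * x * C.v⁻¹) * (C.μ h : G)⁻¹ := by group
      _ = x⁻¹ := by
        rw [C.v_inv x hx, ← hlx, ← Subgroup.coe_inv, ← C.μ_inv, ← Subgroup.coe_mul, ← C.μ_mul,
          ← Subgroup.coe_inv, ← C.μ_inv, ← Subgroup.coe_mul, ← C.μ_mul, mul_comm h, mul_assoc,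
          mul_inv_cancel, mul_one]

theorem scale_f (h : Kˣ) {u : TA C.φ} (hu : u ≠ 1) : (C.scale h).f u = h • C.f u := by
  refine (C.scale h).f_eq hu ?_
  show ((C.μ h : G) * C.v) • C.pt u = C.pt (h • C.f u)
  rw [mul_smul, C.v_pt hu, C.μ_pt]

variable [CharP K 2]

/-- The coordinates for the inverse twist. -/
def flip : Coord S K where
  φ := C.φ.symm
  injQ := fun x y h => C.φ.symm.injective (C.injQ (by
    simp only [RingEquiv.apply_symm_apply] at h ⊢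
    linear_combination h))
  ne_refl := fun h => C.ne_refl (RingEquiv.ext fun x => by
    have h1 : C.φ.symm (C.φ x) = C.φ x := by rw [h]; rfl
    rw [C.φ.symm_apply_apply] at h1
    exact h1.symm)
  θ := (TA.flip C.φ).symm.trans C.θ
  μ := C.μ
  μ_surj := C.μ_surj
  conj := fun k u => by
    simp only [MulEquiv.trans_apply]
    rw [C.conj]
    congr 2
    refine (TA.flip C.φ).injective ?_
    rw [TA.flip_smul, MulEquiv.apply_symm_apply, MulEquiv.apply_symm_apply]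
  v := C.v
  v_sq := C.v_sq
  v_a := C.v_a
  v_inv := C.v_inv

theorem flip_f {u : TA C.φ} (hu : u ≠ 1) :
    C.flip.f (TA.flip C.φ u) = TA.flip C.φ (C.f u) := by
  refine C.flip.f_eq ((map_ne_one_iff _ (TA.flip C.φ).injective).mpr hu) ?_
  show C.v • (C.θ ((TA.flip C.φ).symm (TA.flip C.φ u)) : G) • b =
    (C.θ ((TA.flip C.φ).symm (TA.flip C.φ (C.f u))) : G) • b
  rw [MulEquiv.symm_apply_apply, MulEquiv.symm_apply_apply]
  exact C.v_pt hu

omit [CharP K 2] in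
/-- Transport to an isomorphic field. -/
noncomputable def transport {L : Type*} [Field L] (σ : K ≃+* L) : Coord S L where
  φ := (σ.symm.trans C.φ).trans σ
  injQ := fun x y h => by
    refine σ.symm.injective (C.injQ (σ.injective ?_))
    simpa [RingEquiv.trans_apply, map_mul] using h
  ne_refl := fun h => C.ne_refl (RingEquiv.ext fun x => σ.injective <| by
    have := RingEquiv.ext_iff.mp h (σ x)
    simpa using this)
  θ := (TA.congr σ (ψ := (σ.symm.trans C.φ).trans σ) (fun x => by simp)).symm.trans C.θ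
  μ := fun k => C.μ (Units.map (σ.symm : L →* K) k)
  μ_surj := fun h => by
    obtain ⟨k, hk⟩ := C.μ_surj h
    refine ⟨Units.map (σ : K →* L) k, ?_⟩
    rw [← hk]
    exact congrArg C.μ (Units.ext (by simp))
  conj := fun k u => by
    simp only [MulEquiv.trans_apply]
    rw [C.conj]
    congr 2
    refine (TA.congr σ (ψ := (σ.symm.trans C.φ).trans σ) (fun x => by simp)).injective ?_
    rw [TA.congr_smul, MulEquiv.apply_symm_apply, MulEquiv.apply_symm_apply]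
    congr 1
    ext
    simp
  v := C.v
  v_sq := C.v_sq
  v_a := C.v_a
  v_inv := C.v_inv

end Coord

end CfsgLib.Perm.ZGroup.SuzukiUnique
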